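import Mathlib

/-!
# Groups with fewer than `p^2` Sylow `p`-subgroups
-/

set_option autoImplicit false

namespace Cfsg.Agent.H46SN

open Subgroup MulAction

variable {G : Type*} [Group G] [Finite G] {p : ℕ} [hp : Fact p.Prime]

/-- orbit lengths -/
theorem orbit_card (hn : Nat.card (Sylow p G) < p ^ 2) (P Q : Sylow p G) (hPQ : Q ≠ P) :
    Nat.card (orbit (P : Subgroup G) Q) = p := by
  obtain ⟨k, hk⟩ := IsPGroup.card_orbit P.2 Q
  have h1 : Nat.card (orbit (P : Subgroup G) Q) < p ^ 2 :=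
    lt_of_le_of_lt (Nat.card_le_card_of_injective (fun x : orbit (P : Subgroup G) Q => x.1) Subtype.val_injective) hn
  have h2 : k ≠ 0 := by
    rintro rfl
    rw [pow_zero] at hk
    have h4 : (P : Subgroup G) ≤ Q := by
      rw [Nat.card_eq_one_iff_unique] at hk
      have hsub := hk.1
      intro x hx
      have h5 : (⟨x, hx⟩ : (P : Subgroup G)) • Q = Q := by
        have h6 := Subsingleton.elim (⟨(⟨x, hx⟩ : (P : Subgroup G)) • Q, mem_orbit _ _⟩ : orbit (P : Subgroup G) Q)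
          ⟨Q, mem_orbit_self _⟩
        exact congrArg Subtype.val h6
      have h7 : x • Q = Q := h5
      rw [Sylow.smul_eq_iff_mem_normalizer] at h7
      have h8 : (P : Subgroup G) ⊓ normalizer ((Q : Subgroup G) : Set G) = (P : Subgroup G) ⊓ (Q : Subgroup G) :=
        P.2.inf_normalizer_sylow Q
      have h9 : x ∈ (P : Subgroup G) ⊓ (Q : Subgroup G) := by
        rw [← h8]; exact Subgroup.mem_inf.2 ⟨hx, h7⟩
      exact (Subgroup.mem_inf.1 h9).2
    have h5 : (Q : Subgroup G) = P := P.is_maximal' Q.2 h4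
    exact hPQ (Sylow.ext h5)
  have h3 : k < 2 := by
    rw [hk] at h1
    exact (Nat.pow_lt_pow_iff_right hp.out.one_lt).1 h1
  have h4 : k = 1 := by omega
  rw [hk, h4, pow_one]

theorem card_inf (hn : Nat.card (Sylow p G) < p ^ 2) (P Q : Sylow p G) (hPQ : Q ≠ P) :
    Nat.card ((P : Subgroup G) ⊓ Q : Subgroup G) * p = Nat.card (P : Subgroup G) := by
  have h1 := orbit_card hn P Q hPQ
  have h2 := MulAction.index_stabilizer (P : Subgroup G) Q
  rw [← Nat.card_coe_set_eq, h1] at h2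
  have h3 : stabilizer (P : Subgroup G) Q = ((P : Subgroup G) ⊓ Q : Subgroup G).subgroupOf P := by
    ext x
    rw [mem_stabilizer_iff, mem_subgroupOf]
    have h4 : x • Q = (x : G) • Q := rfl
    rw [h4, Sylow.smul_eq_iff_mem_normalizer]
    have h5 : (P : Subgroup G) ⊓ normalizer ((Q : Subgroup G) : Set G) = (P : Subgroup G) ⊓ (Q : Subgroup G) :=
      P.2.inf_normalizer_sylow Q
    rw [← h5, mem_inf]
    exact ⟨fun h => ⟨x.2, h⟩, fun h => h.2⟩
  have h6 := (stabilizer (P : Subgroup G) Q).card_mul_index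
  rw [h2, h3] at h6
  rw [← h6]
  congr 1
  exact (Nat.card_congr (Subgroup.subgroupOfEquivOfLe (inf_le_left : (P : Subgroup G) ⊓ Q ≤ P)).toEquiv).symm

theorem inf_normal (hn : Nat.card (Sylow p G) < p ^ 2) (P Q : Sylow p G) (hPQ : Q ≠ P) :
    (((P : Subgroup G) ⊓ Q : Subgroup G).subgroupOf (P : Subgroup G)).Normal := by
  have h1 := card_inf hn P Q hPQ
  have h2 : (((P : Subgroup G) ⊓ Q : Subgroup G).subgroupOf (P : Subgroup G)).index = p := by
    have h3 := (((P : Subgroup G) ⊓ Q : Subgroup G).subgroupOf (P : Subgroup G)).card_mul_index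
    rw [Nat.card_congr (Subgroup.subgroupOfEquivOfLe (inf_le_left : (P : Subgroup G) ⊓ Q ≤ P)).toEquiv, ← h1] at h3
    exact Nat.eq_of_mul_eq_mul_left Nat.card_pos h3
  obtain ⟨k, hk⟩ := IsPGroup.iff_card.1 P.2
  have hk0 : k ≠ 0 := by
    rintro rfl
    rw [pow_zero] at hk
    rw [hk] at h1
    exact hp.out.one_lt.ne' (Nat.eq_one_of_mul_eq_one_left h1)
  refine Subgroup.normal_of_index_eq_minFac_card ?_
  rw [h2, hk, hp.out.pow_minFac hk0]

/-- conjugates by elements of `P` meet `P` in the same subgroup -/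
theorem inf_smul (hn : Nat.card (Sylow p G) < p ^ 2) (P Q : Sylow p G) (hPQ : Q ≠ P) {x : G}
    (hx : x ∈ (P : Subgroup G)) :
    ((P : Subgroup G) ⊓ (x • Q : Sylow p G) : Subgroup G) = (P : Subgroup G) ⊓ Q := by
  have hN := inf_normal hn P Q hPQ
  have key : ∀ x ∈ (P : Subgroup G), ((P : Subgroup G) ⊓ (Q : Subgroup G)) ≤ ((P : Subgroup G) ⊓ (x • Q : Sylow p G) : Subgroup G) := by
    intro x hx y hy
    obtain ⟨hy1, hy2⟩ := Subgroup.mem_inf.1 hy
    refine Subgroup.mem_inf.2 ⟨hy1, ?_⟩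
    have h1 := hN.conj_mem ⟨y, hy1⟩ (mem_subgroupOf.2 hy) (⟨x, hx⟩⁻¹ : (P : Subgroup G))
    have h2 : x⁻¹ * y * x⁻¹⁻¹ ∈ ((P : Subgroup G) ⊓ (Q : Subgroup G)) := mem_subgroupOf.1 h1
    rw [inv_inv] at h2
    rw [Sylow.coe_subgroup_smul]
    rw [Subgroup.mem_pointwise_smul_iff_inv_smul_mem]
    change (MulAut.conj x)⁻¹ • y ∈ (Q : Subgroup G)
    have h3 : (MulAut.conj x)⁻¹ • y = x⁻¹ * y * x := by
      rw [← map_inv]; change x⁻¹ * y * x⁻¹⁻¹ = _; rw [inv_inv]
    rw [h3]
    exact (Subgroup.mem_inf.1 h2).2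
  have hc : ∀ x ∈ (P : Subgroup G), Nat.card ((P : Subgroup G) ⊓ (x • Q : Sylow p G) : Subgroup G) = Nat.card ((P : Subgroup G) ⊓ (Q : Subgroup G) : Subgroup G) := by
    intro x hx
    have hne : x • Q ≠ P := by
      intro h
      apply hPQ
      have : Q = x⁻¹ • P := by rw [← h, inv_smul_smul]
      rw [this]
      exact Sylow.smul_eq_iff_mem_normalizer.2 (inv_mem (le_normalizer hx))
    have h1 := card_inf hn P _ hne
    have h2 := card_inf hn P Q hPQ
    exact Nat.eq_of_mul_eq_mul_right hp.out.pos (h1.trans h2.symm)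
  exact (Subgroup.eq_of_le_of_card_ge (key x hx) (hc x hx).le).symm

end Cfsg.Agent.H46SN
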