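import Cfsg.Agent.H46SN.A

/-!
# Groups with fewer than `p^2` Sylow `p`-subgroups: intersections
-/

set_option autoImplicit false

namespace Cfsg.Agent.H46SN

open Subgroup MulAction

variable {G : Type*} [Group G] [Finite G] {p : ℕ} [hp : Fact p.Prime]

theorem card_syl_eq (P Q : Sylow p G) : Nat.card (P : Subgroup G) = Nat.card (Q : Subgroup G) := by
  rw [P.card_eq_multiplicity, Q.card_eq_multiplicity]

/-- The intersection of two Sylow subgroups is contained in every Sylow subgroup. -/
theorem inf_le_all (hn : Nat.card (Sylow p G) < p ^ 2) (P Q R : Sylow p G) (hPQ : Q ≠ P) :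
    (P : Subgroup G) ⊓ Q ≤ R := by
  classical
  have := Fintype.ofFinite (Sylow p G)
  by_contra hR
  set D : Subgroup G := (P : Subgroup G) ⊓ Q with hD
  have hDc : Nat.card D * p = Nat.card (P : Subgroup G) := card_inf hn P Q hPQ
  set Δ : Finset (Sylow p G) := Finset.univ.filter (fun X => D ≤ (X : Subgroup G)) with hΔ
  have hΔR : ∀ X ∈ Δ, X ≠ R := by
    rintro X hX rfl
    exact hR (Finset.mem_filter.1 hX).2
  -- `Δ` is large
  have hΔc : p + 1 ≤ Δ.card := by
    have hPΔ : P ∈ Δ := Finset.mem_filter.2 ⟨Finset.mem_univ _, inf_le_left⟩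
    have h1 : ∀ X ∈ (orbit (P : Subgroup G) Q).toFinset, X ∈ Δ.erase P := by
      intro X hX
      rw [Set.mem_toFinset] at hX
      obtain ⟨x, rfl⟩ := hX
      refine Finset.mem_erase.2 ⟨?_, Finset.mem_filter.2 ⟨Finset.mem_univ _, ?_⟩⟩
      · intro h
        have h' : (x : G) • Q = P := h
        apply hPQ
        have h3 : Q = (x : G)⁻¹ • ((x : G) • Q) := (inv_smul_smul _ _).symm
        refine h3.trans ((congrArg (fun Z => (x : G)⁻¹ • Z) h').trans ?_)
        exact Sylow.smul_eq_iff_mem_normalizer.2 (inv_mem (le_normalizer x.2))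
      · have h2 := inf_smul hn P Q hPQ x.2
        change D ≤ (((x : G) • Q : Sylow p G) : Subgroup G)
        rw [hD, ← h2]
        exact inf_le_right
    have h2 := Finset.card_le_card (show (orbit (P : Subgroup G) Q).toFinset ⊆ Δ.erase P from h1)
    rw [Finset.card_erase_of_mem hPΔ] at h2
    have h3 := orbit_card hn P Q hPQ
    rw [Nat.card_eq_fintype_card, ← Set.toFinset_card] at h3
    have h4 : 0 < Δ.card := Finset.card_pos.2 ⟨P, hPΔ⟩
    omega
  -- the intersections with `R` are different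
  have hinj : ∀ X ∈ Δ, ∀ Y ∈ Δ, (R : Subgroup G) ⊓ X = (R : Subgroup G) ⊓ Y → X = Y := by
    intro X hX Y hY hE
    by_contra hne
    have hX' := (Finset.mem_filter.1 hX).2
    have hY' := (Finset.mem_filter.1 hY).2
    have h1 := card_inf hn R X (hΔR X hX)
    have h2 := card_inf hn X Y (Ne.symm hne)
    have h3 : (R : Subgroup G) ⊓ X ≤ (X : Subgroup G) ⊓ Y := by
      refine le_inf inf_le_right ?_
      rw [hE]; exact inf_le_right
    have c1 := card_syl_eq R X
    have c2 := card_syl_eq P X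
    have h4 : (R : Subgroup G) ⊓ X = (X : Subgroup G) ⊓ Y := by
      refine Subgroup.eq_of_le_of_card_ge h3 ?_
      refine (Nat.eq_of_mul_eq_mul_right hp.out.pos ?_).le
      rw [h1, h2, c1]
    have h5 : D = (X : Subgroup G) ⊓ Y := by
      refine Subgroup.eq_of_le_of_card_ge (le_inf hX' hY') ?_
      refine (Nat.eq_of_mul_eq_mul_right hp.out.pos ?_).le
      rw [h2, hDc, c2]
    apply hR
    rw [h5, ← h4]
    exact inf_le_left
  -- count
  have hbig : (Δ.biUnion (fun X => (orbit (R : Subgroup G) X).toFinset)).card = ∑ X ∈ Δ, p := by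
    rw [Finset.card_biUnion]
    · refine Finset.sum_congr rfl fun X hX => ?_
      have h3 := orbit_card hn R X (hΔR X hX)
      rwa [Nat.card_eq_fintype_card, ← Set.toFinset_card] at h3
    · intro X hX Y hY hXY
      change Disjoint _ _
      rw [Finset.disjoint_left]
      intro Z hZ1 hZ2
      rw [Set.mem_toFinset] at hZ1 hZ2
      obtain ⟨x, hx⟩ := hZ1
      obtain ⟨y, hy⟩ := hZ2
      have h1 := inf_smul hn R X (hΔR X hX) x.2
      have h2 := inf_smul hn R Y (hΔR Y hY) y.2
      have hx' : (x : G) • X = Z := hx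
      have hy' : (y : G) • Y = Z := hy
      rw [hx'] at h1
      rw [hy'] at h2
      exact hXY (hinj X hX Y hY (h1.symm.trans h2))
  have hle := Finset.card_le_univ (Δ.biUnion (fun X => (orbit (R : Subgroup G) X).toFinset))
  rw [hbig, Finset.sum_const, smul_eq_mul, ← Nat.card_eq_fintype_card] at hle
  nlinarith [hp.out.pos]

/-- `P ∩ Q` is in `O_p(G)`: the intersection of all the Sylow subgroups. -/
theorem card_eq_of_core (hn : Nat.card (Sylow p G) < p ^ 2) (P Q : Sylow p G) (hPQ : Q ≠ P)
    (hcore : ∀ N : Subgroup G, N.Normal → IsPGroup p N → N = ⊥) : Nat.card (P : Subgroup G) = p := by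
  have h1 := card_inf hn P Q hPQ
  set N : Subgroup G := ⨅ R : Sylow p G, (R : Subgroup G) with hN
  have hNn : N.Normal := by
    constructor
    intro n hnm g
    rw [hN, Subgroup.mem_iInf] at hnm ⊢
    intro R
    have h2 := hnm (g⁻¹ • R)
    rw [Sylow.coe_subgroup_smul, Subgroup.mem_pointwise_smul_iff_inv_smul_mem] at h2
    have h3 : (MulAut.conj g⁻¹)⁻¹ • n = g * n * g⁻¹ := by
      rw [← map_inv, inv_inv]; rfl
    have h4 : ((MulAut.conj g⁻¹)⁻¹ • n : G) ∈ (R : Subgroup G) := h2
    rwa [h3] at h4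
  have hNp : IsPGroup p N := P.2.to_le (iInf_le _ P)
  have h2 : (P : Subgroup G) ⊓ Q ≤ N := le_iInf fun R => inf_le_all hn P Q R hPQ
  rw [hcore N hNn hNp, le_bot_iff] at h2
  rw [h2, Subgroup.card_bot, one_mul] at h1
  exact h1.symm

end Cfsg.Agent.H46SN
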