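import Mathlib

/-!
# Number theory for `n_p(G) < p^2`
-/

set_option autoImplicit false

namespace Cfsg.Agent.H46SN

/-- PSL(2,p): `n ∣ (p^2-1)/2`, `n = 1 + k p`, gives `k = 1` -/
theorem psl_num {p m k : ℕ} (hp : 3 < p) (hk : 0 < k) (h : p ^ 2 - 1 = 2 * (m * (1 + k * p))) : k = 1 := by
  have hp1 : 1 ≤ p ^ 2 := Nat.one_le_pow _ _ (by omega)
  have h1 : p ^ 2 = 2 * (m * (1 + k * p)) + 1 := by omega
  -- `2 m ≡ -1`
  have h2 : (2 * m + 1) % p = 0 := by
    have h3 : (2 * m + 1 + (2 * m * k) * p) % p = 0 := by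
      have : 2 * m + 1 + (2 * m * k) * p = p * p := by rw [← pow_two, h1]; ring
      rw [this]; exact Nat.mul_mod_right p p
    rwa [Nat.add_mul_mod_self_right] at h3
  obtain ⟨s, hs⟩ := Nat.dvd_of_mod_eq_zero h2
  have hs0 : 0 < s := by
    rcases Nat.eq_zero_or_pos s with h | h
    · rw [h] at hs; omega
    · exact h
  -- p + k = s (1 + k p)
  have h4 : p + k = s * (1 + k * p) := by
    have h5 : (p * s) * (1 + k * p) = (2 * m + 1) * (1 + k * p) := by rw [hs]
    have h6 : p * (s * (1 + k * p)) = p * (p + k) := by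
      calc p * (s * (1 + k * p)) = (p * s) * (1 + k * p) := by ring
        _ = (2 * m + 1) * (1 + k * p) := h5
        _ = (2 * (m * (1 + k * p)) + 1) + k * p := by ring
        _ = p ^ 2 + k * p := by rw [← h1]
        _ = p * (p + k) := by ring
    exact (Nat.eq_of_mul_eq_mul_left (by omega) h6).symm
  have h7 : 1 + k * p ≤ p + k := by
    rw [h4]; exact Nat.le_mul_of_pos_left _ hs0
  by_contra hne
  have h8 : 2 ≤ k := by omega
  obtain ⟨j, rfl⟩ := Nat.exists_eq_add_of_le h8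
  nlinarith

/-- SL(2,p-1): -/
theorem sl_num {p m k : ℕ} (hp : 3 < p) (hk : 0 < k) (h : (p - 1) * (p - 2) = m * (1 + k * p)) :
    2 * k = p - 3 := by
  obtain ⟨a, rfl⟩ := Nat.exists_eq_add_of_le (show 4 ≤ p by omega)
  have e1 : 4 + a - 1 = a + 3 := by omega
  have e2 : 4 + a - 2 = a + 2 := by omega
  rw [e1, e2] at h
  have h2 : m % (4 + a) = 2 := by
    have h3 : (m + (m * k) * (4 + a)) % (4 + a) = 2 := by
      have : m + (m * k) * (4 + a) = 2 + (a + 1) * (4 + a) := by
        have : m + (m * k) * (4 + a) = m * (1 + k * (4 + a)) := by ring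
        rw [this, ← h]; ring
      rw [this, Nat.add_mul_mod_self_right]
      exact Nat.mod_eq_of_lt (by omega)
    rwa [Nat.add_mul_mod_self_right] at h3
  obtain ⟨s, hs⟩ : ∃ s, m = 2 + s * (4 + a) := by
    refine ⟨m / (4 + a), ?_⟩
    have h3 := Nat.mod_add_div m (4 + a)
    rw [h2, mul_comm] at h3
    exact h3.symm
  rw [hs] at h
  -- a + 1 = 2 k + s + s k p
  have h4 : a + 1 = 2 * k + s + s * k * (4 + a) := by
    have : (a + 1) * (4 + a) = (2 * k + s + s * k * (4 + a)) * (4 + a) := by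
      have e : (a + 3) * (a + 2) = (a + 1) * (4 + a) + 2 := by ring
      have e' : (2 + s * (4 + a)) * (1 + k * (4 + a)) = (2 * k + s + s * k * (4 + a)) * (4 + a) + 2 := by ring
      rw [e, e'] at h
      omega
    exact Nat.eq_of_mul_eq_mul_right (by omega) this
  have hs0 : s = 0 := by
    by_contra hs0
    have : 1 ≤ s * k := Nat.mul_pos (by omega) hk
    nlinarith
  rw [hs0] at h4
  omega

/-- the third alternative -/
theorem third_num {p n h u q j : ℕ} (hp : 1 < p) (hq : q.Prime) (hh : 0 < h) (hu : 0 < u)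
    (he : n * (u + 1) = h * u * p + u ^ 2 + u + h) (hn : 1 + n * p = q ^ j) (hlt : n < p) : False := by
  have hh1 : h = 1 := by
    by_contra hne
    have h2 : 2 ≤ h := by omega
    obtain ⟨h', rfl⟩ := Nat.exists_eq_add_of_le h2
    have : n * (u + 1) ≤ (p - 1) * (u + 1) := Nat.mul_le_mul_right _ (by omega)
    obtain ⟨p', rfl⟩ := Nat.exists_eq_add_of_le (show 1 ≤ p by omega)
    have e : 1 + p' - 1 = p' := by omega
    rw [e] at this
    nlinarith [Nat.zero_le (h' * u * p'), Nat.zero_le (h' * u), Nat.zero_le (u * p'), Nat.zero_le (u ^ 2),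
      Nat.mul_le_mul_right p' (show 1 ≤ u from hu)]
  subst hh1
  -- n = A + u
  have hun : u ≤ n := by
    by_contra hc
    have h1 : n + 1 ≤ u := by omega
    have : n * (u + 1) < u * (u + 1) := Nat.mul_lt_mul_of_pos_right (by omega) (by omega)
    nlinarith [Nat.zero_le (1 * u * p)]
  obtain ⟨A, rfl⟩ := Nat.exists_eq_add_of_le hun
  have hA : A * (u + 1) = u * p + 1 := by nlinarith
  have hA0 : 0 < A := by
    rcases Nat.eq_zero_or_pos A with h | h
    · rw [h] at hA; omega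
    · exact h
  have hAp : A < p := by omega
  obtain ⟨d, rfl⟩ := Nat.exists_eq_add_of_le hAp.le
  have hd0 : 0 < d := by omega
  have hd : A = 1 + u * d := by nlinarith
  -- product
  have hprod : 1 + (u + A) * (A + d) = A * ((u + 1) * (d + 1) + 1) := by
    rw [hd]; ring
  rw [hprod] at hn
  have hA' : A ∣ q ^ j := ⟨_, hn.symm⟩
  have hB' : ((u + 1) * (d + 1) + 1) ∣ q ^ j := ⟨A, by rw [← hn]; ring⟩
  obtain ⟨a, -, ha⟩ := (Nat.dvd_prime_pow hq).1 hA'
  obtain ⟨b, -, hb⟩ := (Nat.dvd_prime_pow hq).1 hB'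
  have hAB : A < (u + 1) * (d + 1) + 1 := by rw [hd]; nlinarith
  rw [ha, hb] at hAB
  have hab : a < b := (Nat.pow_lt_pow_iff_right hq.one_lt).1 hAB
  have hdvd : A * q ∣ (u + 1) * (d + 1) + 1 := by
    rw [ha, hb, ← pow_succ]
    exact pow_dvd_pow q hab
  obtain ⟨c, hc⟩ := hdvd
  have hc0 : 0 < c := by
    rcases Nat.eq_zero_or_pos c with h | h
    · rw [h] at hc; omega
    · exact h
  have hq2 := hq.two_le
  -- A (q c - 1) = u + d + 1
  have hdiv : A ∣ u + d + 1 := by
    have h1 : A ∣ (u + 1) * (d + 1) + 1 := ⟨q * c, by rw [hc]; ring⟩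
    have h2 : (u + 1) * (d + 1) + 1 = A + (u + d + 1) := by rw [hd]; ring
    rw [h2] at h1
    exact (Nat.dvd_add_right (dvd_refl A)).1 h1
  obtain ⟨e, he'⟩ := hdiv
  have he0 : 0 < e := by
    rcases Nat.eq_zero_or_pos e with h | h
    · rw [h] at he'; omega
    · exact h
  have hle : A ≤ u + d + 1 := by rw [he']; exact Nat.le_mul_of_pos_right _ he0
  rw [hd] at hle
  have hcases : u = 1 ∨ d = 1 ∨ (u = 2 ∧ d = 2) := by
    by_contra hcon
    push Not at hcon
    obtain ⟨c1, c2, c3⟩ := hcon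
    obtain ⟨u', rfl⟩ := Nat.exists_eq_add_of_le (show 2 ≤ u by omega)
    obtain ⟨d', rfl⟩ := Nat.exists_eq_add_of_le (show 2 ≤ d by omega)
    have h1 : u' = 0 ∧ d' = 0 := by
      constructor
      · nlinarith [Nat.zero_le (u' * d')]
      · nlinarith [Nat.zero_le (u' * d')]
    exact c3 (by omega) (by omega)
  rcases hcases with rfl | rfl | ⟨rfl, rfl⟩
  · -- A = 1 + d ∣ d + 2
    rw [hd] at he'
    have : e = 1 := by
      by_contra hne
      have : 2 ≤ e := by omega
      have := Nat.mul_le_mul_left (1 + 1 * d) this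
      omega
    rw [this] at he'
    omega
  · rw [hd] at he'
    have : e = 1 := by
      by_contra hne
      have : 2 ≤ e := by omega
      have := Nat.mul_le_mul_left (1 + u * 1) this
      omega
    rw [this] at he'
    omega
  · -- p = 7, n = 7
    omega

/-- a prime power that is `2^{m-1}(2^m-1)` -/
theorem not_pp {m q j : ℕ} (hq : q.Prime) (hm : 2 ≤ m) (h : 2 ^ (m - 1) * (2 ^ m - 1) = q ^ j) : False := by
  have h1 : 2 ∣ q ^ j := by
    rw [← h]
    exact Dvd.dvd.mul_right (dvd_pow_self 2 (by omega)) _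
  have h2 : q = 2 := by
    have := Nat.prime_two.dvd_of_dvd_pow h1
    exact ((Nat.prime_dvd_prime_iff_eq Nat.prime_two hq).1 this).symm
  subst h2
  have h3 : (2 ^ m - 1) ∣ 2 ^ j := ⟨2 ^ (m - 1), by rw [← h]; ring⟩
  obtain ⟨i, -, hi⟩ := (Nat.dvd_prime_pow Nat.prime_two).1 h3
  have h4 : 4 ≤ 2 ^ m := by
    calc 4 = 2 ^ 2 := by norm_num
      _ ≤ 2 ^ m := Nat.pow_le_pow_right (by norm_num) hm
  have hi0 : i ≠ 0 := by
    rintro rfl
    rw [pow_zero] at hi; omega
  have h5 : 2 ∣ 2 ^ i := dvd_pow_self 2 hi0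
  have h6 : 2 ∣ 2 ^ m := dvd_pow_self 2 (by omega)
  omega

end Cfsg.Agent.H46SN
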