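import Cfsg.Agent.H46SN.B
import Cfsg.Agent.H46SN.N
import Cfsg.Agent.S4700
import Cfsg.Agent.Solv.Core
import Cfsg.Agent.H4.CardSL
import Cfsg.Agent.H81.SL2Card

/-!
# Simple groups whose number of Sylow `p`-subgroups is a prime power below `p^2`
-/

set_option autoImplicit false

namespace Cfsg.Agent.H46SN

open Subgroup MulAction

variable {S : Type*} [Group S] [Finite S] {p : ℕ} [hp : Fact p.Prime]

theorem comm_of_pgroup [IsSimpleGroup S] (h : IsPGroup p S) : IsMulCommutative S := by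
  have h1 : (Subgroup.center S) ≠ ⊥ := by
    have := h.center_nontrivial
    exact (Subgroup.nontrivial_iff_ne_bot _).1 this
  have h2 : Subgroup.center S = ⊤ := (Subgroup.Normal.eq_bot_or_eq_top (inferInstance : (Subgroup.center S).Normal)).resolve_left h1
  refine ⟨⟨fun a b => ?_⟩⟩
  have : b ∈ Subgroup.center S := by rw [h2]; trivial
  exact Subgroup.mem_center_iff.1 this a

theorem perfect_of_simple [IsSimpleGroup S] (hS : ¬ IsMulCommutative S) : commutator S = ⊤ := by
  refine (Subgroup.Normal.eq_bot_or_eq_top (inferInstance : (commutator S).Normal)).resolve_left ?_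
  intro h
  apply hS
  rw [commutator_eq_bot_iff_center_eq_top] at h
  refine ⟨⟨fun a b => ?_⟩⟩
  have : b ∈ Subgroup.center S := by rw [h]; trivial
  exact Subgroup.mem_center_iff.1 this a

theorem simple_false [IsSimpleGroup S] (hS : ¬ IsMulCommutative S) (hpS : p ∣ Nat.card S)
    (hmers : ¬ (3 < p ∧ ∃ k : ℕ, p + 1 = 2 ^ k)) (hn : Nat.card (Sylow p S) < p ^ 2) {q j : ℕ}
    (hq : q.Prime) (hc : Nat.card (Sylow p S) = q ^ j) : False := by
  have hcore : ∀ N : Subgroup S, N.Normal → IsPGroup p N → N = ⊥ := by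
    intro N hN hNp
    refine (Subgroup.Normal.eq_bot_or_eq_top hN).resolve_right ?_
    rintro rfl
    exact hS (comm_of_pgroup (p := p) (hNp.of_equiv Subgroup.topEquiv))
  obtain ⟨P⟩ : Nonempty (Sylow p S) := inferInstance
  have hPb : (P : Subgroup S) ≠ ⊥ := P.ne_bot_of_dvd_card hpS
  have hex : ∃ Q : Sylow p S, Q ≠ P := by
    by_contra h
    push Not at h
    have : Subsingleton (Sylow p S) := ⟨fun a b => (h a).trans (h b).symm⟩
    have hPn : (P : Subgroup S).Normal := P.normal_of_subsingleton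
    exact hPb (hcore _ hPn P.2)
  obtain ⟨Q, hQ⟩ := hex
  have hP : Nat.card (P : Subgroup S) = p := card_eq_of_core hn P Q hQ hcore
  have hmod := card_sylow_modEq_one p S
  have hpos : 1 < Nat.card (Sylow p S) := by
    rw [Finite.one_lt_card_iff_nontrivial]
    exact ⟨⟨Q, P, hQ⟩⟩
  obtain ⟨n, hnn⟩ : ∃ n, Nat.card (Sylow p S) = 1 + n * p := by
    obtain ⟨k, hk⟩ := (Nat.modEq_iff_dvd' hpos.le).1 hmod.symm
    exact ⟨k, by rw [mul_comm k p, ← hk]; omega⟩
  have hn0 : 0 < n := by
    rcases Nat.eq_zero_or_pos n with h | h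
    · rw [hnn, h] at hpos; omega
    · exact h
  have hnp : n < p := by
    rw [hnn] at hn
    by_contra h
    have : p * p ≤ n * p := Nat.mul_le_mul_right p (by omega)
    rw [pow_two] at hn
    omega
  -- order of `S`
  obtain ⟨m, hm⟩ : ∃ m, Nat.card S = p * (m * (1 + n * p)) := by
    have h1 := (normalizer ((P : Subgroup S) : Set S)).card_mul_index
    have h2 := P.card_eq_index_normalizer
    have h3 : Nat.card (P : Subgroup S) ∣ Nat.card (normalizer ((P : Subgroup S) : Set S)) :=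
      Subgroup.card_dvd_of_le le_normalizer
    rw [hP] at h3
    obtain ⟨m, hm⟩ := h3
    refine ⟨m, ?_⟩
    have h4 : (normalizer ((P : Subgroup S) : Set S)).index = 1 + n * p := by rw [← hnn, h2]; rfl
    rw [← h1, h4, hm]; ring
  have hbot : Cfsg.pPrimeCore p S = ⊥ := by
    refine (Subgroup.Normal.eq_bot_or_eq_top (inferInstance : (Cfsg.pPrimeCore p S).Normal)).resolve_right ?_
    intro h
    have h1 := Cfsg.Agent.Solv.pPrimeCore_card_coprime (G := S) p
    rw [h, Subgroup.card_top] at h1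
    exact (Nat.Prime.coprime_iff_not_dvd hp.out).1 h1.symm hpS
  have hqc : Nat.card (S ⧸ Cfsg.pPrimeCore p S) = Nat.card S := by
    rw [Subgroup.card_eq_card_quotient_mul_card_subgroup (Cfsg.pPrimeCore p S), hbot, Subgroup.card_bot, mul_one]
  rw [hnn] at hc
  rcases Cfsg.Agent.S4700.result (perfect_of_simple hS) p P hP n hnn with
    ⟨F, _, _, hF, h3, ⟨e⟩⟩ | ⟨m', F, _, _, hF, hpm, h3, ⟨e⟩⟩ | ⟨h, u, hh, hu, he⟩
  · have h1 : Nat.card S = Nat.card (Matrix.ProjectiveSpecialLinearGroup (Fin 2) F) := by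
      rw [← hqc]; exact Nat.card_congr e.toEquiv
    have h2 := Cfsg.Agent.H4.card_PSL_mul (F := F) 2 (by norm_num)
    have hodd : p % 2 = 1 := by
      rcases hp.out.eq_two_or_odd with h | h
      · omega
      · exact h
    have hg : Nat.gcd 2 (p - 1) = 2 := Nat.gcd_eq_left (Nat.dvd_of_mod_eq_zero (by omega))
    rw [← h1, Cfsg.Agent.H81.card_sl2, hF, hg, hm] at h2
    have h4 : (p - 1) * (p + 1) = 2 * (m * (1 + n * p)) := by
      refine Nat.eq_of_mul_eq_mul_left hp.out.pos ?_
      rw [← h2]; ring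
    have h5 : p ^ 2 - 1 = 2 * (m * (1 + n * p)) := by
      rw [← h4]
      have := Nat.sq_sub_sq p 1
      rw [one_pow] at this
      rw [this]; ring
    have hn1 := psl_num h3 hn0 h5
    rw [hn1, one_mul] at hc
    have h6 : 2 ∣ q ^ j := by rw [← hc]; exact Nat.dvd_of_mod_eq_zero (by omega)
    have h7 : q = 2 := ((Nat.prime_dvd_prime_iff_eq Nat.prime_two hq).1 (Nat.prime_two.dvd_of_dvd_pow h6)).symm
    exact hmers ⟨h3, j, by rw [← h7, ← hc]; ring⟩
  · have h1 : Nat.card S = Nat.card (Matrix.SpecialLinearGroup (Fin 2) F) := by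
      rw [← hqc]; exact Nat.card_congr e.toEquiv
    rw [Cfsg.Agent.H81.card_sl2, hF, hm] at h1
    have e1 : 2 ^ m' = p - 1 := by omega
    have e2 : 2 ^ m' - 1 = p - 2 := by omega
    have e3 : 2 ^ m' + 1 = p := by omega
    have h4 : (p - 1) * (p - 2) = m * (1 + n * p) := by
      refine Nat.eq_of_mul_eq_mul_left hp.out.pos ?_
      rw [h1, e2, e3, e1]; ring
    have h5 := sl_num h3 hn0 h4
    have hm2 : 2 ≤ m' := by
      by_contra hcon
      have : m' ≤ 1 := by omega
      have := Nat.pow_le_pow_right (show 0 < 2 by norm_num) this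
      omega
    refine not_pp (m := m') hq hm2 ?_ (j := j)
    rw [← hc]
    obtain ⟨m1, rfl⟩ := Nat.exists_eq_add_of_le (show 1 ≤ m' by omega)
    have e4 : 1 + m1 - 1 = m1 := by omega
    rw [e4]
    rw [e2]
    have e5 : 2 ^ (1 + m1) = 2 * 2 ^ m1 := by rw [pow_add, pow_one]
    have h6 : 2 * (2 ^ m1 * (p - 2)) = 2 * (1 + n * p) := by
      have e6 : 2 * (2 ^ m1 * (p - 2)) = (p - 1) * (p - 2) := by rw [← mul_assoc, ← e5, e1]
      rw [e6]
      obtain ⟨a, rfl⟩ := Nat.exists_eq_add_of_le (show 4 ≤ p by omega)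
      have f1 : 4 + a - 1 = a + 3 := by omega
      have f2 : 4 + a - 2 = a + 2 := by omega
      have f3 : 2 * n = a + 1 := by omega
      rw [f1, f2]
      have : 2 * (1 + n * (4 + a)) = 2 + (2 * n) * (4 + a) := by ring
      rw [this, f3]; ring
    exact Nat.eq_of_mul_eq_mul_left (by norm_num) h6
  · exact third_num hp.out.one_lt hq hh hu he hc hnp

end Cfsg.Agent.H46SN
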