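import Cfsg.Agent.H46SN.C
import Cfsg.Agent.H65.SylowNum
import Cfsg.Agent.H65.Basic
import Cfsg.Agent.Transfer.Fusion
import Cfsg.Agent.Fus.PSol1
import Cfsg.Agent.H1.SylowNumbers

/-!
# Sylow numbers of `p`-solvable groups; the `p`-solvability criterion
-/

set_option autoImplicit false
universe u

namespace Cfsg.Agent.H46SN

open Subgroup Cfsg.Agent.H65.SylowNum

def HasL (p : ℕ) (n : ℕ) : Prop := ∃ l : List ℕ, l.prod = n ∧ ∀ m ∈ l, IsPrimePow m ∧ m % p = 1

theorem HasL.mul {p n m : ℕ} (h1 : HasL p n) (h2 : HasL p m) : HasL p (n * m) := by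
  obtain ⟨l1, e1, g1⟩ := h1
  obtain ⟨l2, e2, g2⟩ := h2
  refine ⟨l1 ++ l2, by rw [List.prod_append, e1, e2], fun m hm => ?_⟩
  rcases List.mem_append.1 hm with h | h
  · exact g1 m h
  · exact g2 m h

theorem psolv_list (p : ℕ) [hp : Fact p.Prime] (n : ℕ) : ∀ (G : Type u) [Group G] [Finite G], Nat.card G = n →
    Cfsg.IsPSolvable p G → HasL p (Nat.card (Sylow p G)) := by
  induction n using Nat.strong_induction_on with
  | _ n ih =>
  intro G _ _ hn hsol
  have P : Sylow p G := default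
  have hnorm1 : (P : Subgroup G).Normal → HasL p (Nat.card (Sylow p G)) := by
    intro hN
    refine ⟨[], ?_, by simp⟩
    rw [P.card_eq_index_normalizer]
    have : normalizer (P : Set G) = ⊤ := Subgroup.normalizer_eq_top_iff.2 hN
    rw [Subgroup.index_eq_one.2 this, List.prod_nil]
  by_cases ht : Nontrivial G
  swap
  · rw [not_nontrivial_iff_subsingleton] at ht
    exact hnorm1 ⟨fun a ha g => by rw [Subsingleton.elim (g * a * g⁻¹) a]; exact ha⟩
  by_cases hs : IsSimpleGroup G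
  · rcases Cfsg.Agent.Fus.PSol.core_ne_bot hsol with h | h
    · have h1 : Cfsg.pCore p G = ⊤ :=
        (Subgroup.Normal.eq_bot_or_eq_top (inferInstance : (Cfsg.pCore p G).Normal)).resolve_left h
      have h2 : IsPGroup p (⊤ : Subgroup G) := h1 ▸ Cfsg.Agent.Solv.pCore_isPGroup p
      refine hnorm1 ?_
      have h3 : (⊤ : Subgroup G) = P := P.is_maximal' h2 le_top
      rw [← h3]; infer_instance
    · have h1 : Cfsg.pPrimeCore p G = ⊤ :=
        (Subgroup.Normal.eq_bot_or_eq_top (inferInstance : (Cfsg.pPrimeCore p G).Normal)).resolve_left h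
      have h2 := Cfsg.Agent.Solv.pPrimeCore_card_coprime (G := G) p
      rw [h1, Subgroup.card_top] at h2
      refine hnorm1 ?_
      have h3 : (P : Subgroup G) = ⊥ := by
        rw [← Subgroup.card_eq_one]
        obtain ⟨k, hk⟩ := IsPGroup.iff_card.1 P.2
        have h4 : Nat.card (P : Subgroup G) ∣ Nat.card G := Subgroup.card_subgroup_dvd_card _
        rw [hk] at h4 ⊢
        rcases Nat.eq_zero_or_pos k with h | h
        · rw [h, pow_zero]
        · exfalso
          exact (Nat.Prime.coprime_iff_not_dvd hp.out).1 h2.symm ((dvd_pow_self p h.ne').trans h4)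
      rw [h3]; infer_instance
  obtain ⟨K, hKn, hK1, hK2⟩ : ∃ K : Subgroup G, K.Normal ∧ K ≠ ⊥ ∧ K ≠ ⊤ := by
    by_contra h
    push Not at h
    exact hs ⟨fun K hK => by
      by_cases h1 : K = ⊥
      · exact Or.inl h1
      · exact Or.inr (h K hK h1)⟩
  have hlt : ∀ M : Subgroup G, M ≠ ⊤ → Nat.card M < n := by
    intro M hM
    rw [← hn]
    have := Cfsg.Agent.H65.card_lt_card_of_lt (lt_top_iff_ne_top.2 hM)
    rwa [Subgroup.card_top] at this
  have hqlt : ∀ M : Subgroup G, M ≠ ⊥ → Nat.card (G ⧸ M) < n := by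
    intro M hM
    rw [← hn, Subgroup.card_eq_card_quotient_mul_card_subgroup M]
    have h1 : 1 < Nat.card M := by
      rw [Subgroup.one_lt_card_iff_ne_bot]; exact hM
    have h2 : 0 < Nat.card (G ⧸ M) := Nat.card_pos
    nlinarith
  have hPK : ¬ p ∣ (P : Subgroup G).relIndex K := by
    have := (Cfsg.Agent.Transfer.sylowInf P K).not_dvd_index
    rwa [Cfsg.Agent.Transfer.sylowInf_coe] at this
  by_cases hQn : ((P : Subgroup G) ⊓ K : Subgroup G).Normal
  swap
  · have h1 : normalizer ((((P : Subgroup G) ⊓ K : Subgroup G)) : Set G) ≠ ⊤ := by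
      intro h; exact hQn (Subgroup.normalizer_eq_top_iff.1 h)
    have h2 := card_sylow_of_normalizer_le P (M := normalizer ((((P : Subgroup G) ⊓ K : Subgroup G)) : Set G)) normalizer_le_normalizer_inf
    rw [h2, ← card_sylow_normal P K hPK]
    exact (ih _ (hlt _ h1) _ rfl (H76.isPSolvable_subgroup _ hsol)).mul
      (ih _ (hlt K hK2) K rfl (H76.isPSolvable_subgroup _ hsol))
  by_cases hQ : ((P : Subgroup G) ⊓ K : Subgroup G) = ⊥
  swap
  · have h1 := card_sylow_quotient P ((P : Subgroup G) ⊓ K)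
    have h2 : (P : Subgroup G) ⊔ ((P : Subgroup G) ⊓ K) = P := sup_eq_left.2 inf_le_left
    rw [h2] at h1
    have h3 : Nat.card (Sylow p G) = Nat.card (Sylow p (G ⧸ ((P : Subgroup G) ⊓ K))) := by
      rw [h1, P.card_eq_index_normalizer]
      rfl
    rw [h3]
    exact ih _ (hqlt _ hQ) _ rfl (H76.isPSolvable_quotient _ hsol)
  -- now `K` is a `p'`-group
  by_cases hT : ((P : Subgroup G) ⊔ K : Subgroup G).Normal
  swap
  · have h1 : normalizer ((((P : Subgroup G) ⊔ K : Subgroup G)) : Set G) ≠ ⊤ := by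
      intro h; exact hT (Subgroup.normalizer_eq_top_iff.1 h)
    have h2 := card_sylow_of_normalizer_le P (M := normalizer ((((P : Subgroup G) ⊔ K : Subgroup G)) : Set G)) normalizer_le_normalizer_sup
    rw [h2, ← card_sylow_quotient P K]
    exact (ih _ (hlt _ h1) _ rfl (H76.isPSolvable_subgroup _ hsol)).mul
      (ih _ (hqlt K hK1) _ rfl (H76.isPSolvable_quotient _ hsol))
  by_cases hTt : ((P : Subgroup G) ⊔ K : Subgroup G) = ⊤
  swap
  · rw [card_sylow_of_normal_ge P (T := (P : Subgroup G) ⊔ K) le_sup_left]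
    exact ih _ (hlt _ hTt) _ rfl (H76.isPSolvable_subgroup _ hsol)
  -- `G = P K`
  have hKp : ¬ p ∣ Nat.card K := by
    have h1 : (P : Subgroup G).relIndex K = Nat.card K := by
      rw [← inf_relIndex_right, hQ, relIndex_bot_left]
    rwa [h1] at hPK
  have hPN : (P : Subgroup G) ≤ normalizer (K : Set G) := by
    rw [Subgroup.normalizer_eq_top_iff.2 hKn]; exact le_top
  obtain ⟨l, hl, hg⟩ := exists_list (A := (P : Subgroup G)) (K := K) P.2 hKp hPN
  refine ⟨l, ?_, fun m hm => hg m hm⟩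
  rw [hl, P.card_eq_index_normalizer]
  have h5 : K ⊔ normalizer ((P : Subgroup G) : Set G) = ⊤ := by
    rw [eq_top_iff, ← hTt]
    exact sup_le (le_normalizer.trans le_sup_right) le_sup_left
  have h6 : (normalizer (P : Set G)).index = (normalizer ((P : Subgroup G) : Set G)).relIndex K :=
    Cfsg.Agent.H1.index_eq_relIndex_of_sup_eq_top K _ h5
  rw [h6, ← inf_relIndex_right (normalizer ((P : Subgroup G) : Set G)) K]
  congr 1
  apply le_antisymm
  · exact le_inf (inf_le_right.trans (centralizer_le_normalizer _)) inf_le_left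
  · rintro x ⟨hx1, hx2⟩
    refine ⟨hx2, ?_⟩
    change x ∈ centralizer ((P : Subgroup G) : Set G)
    rw [mem_centralizer_iff]
    intro a ha
    have h7 : x * a * x⁻¹ * a⁻¹ ∈ (P : Subgroup G) ⊓ K := by
      refine mem_inf.2 ⟨mul_mem ((mem_normalizer_iff.1 hx1 a).1 ha) (inv_mem ha), ?_⟩
      have e : x * a * x⁻¹ * a⁻¹ = x * (a * x⁻¹ * a⁻¹) := by group
      rw [e]
      exact mul_mem hx2 (hKn.conj_mem _ (inv_mem hx2) a)
    rw [hQ, mem_bot, mul_inv_eq_one, mul_inv_eq_iff_eq_mul] at h7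
    exact h7.symm

theorem pp_of_list {p n : ℕ} (hp : p.Prime) (h : HasL p n) (hn : n < p ^ 2) :
    ∃ q k : ℕ, q.Prime ∧ n = q ^ k := by
  obtain ⟨l, hl, hg⟩ := h
  have hge : ∀ m ∈ l, p < m := by
    intro m hm
    obtain ⟨h1, h2⟩ := hg m hm
    have h3 : 1 < m := h1.one_lt
    by_contra hc
    rcases Nat.lt_or_ge m p with h4 | h4
    · rw [Nat.mod_eq_of_lt h4] at h2; omega
    · have : m = p := by omega
      rw [this, Nat.mod_self] at h2; omega
  match l, hl, hg, hge with
  | [], hl, _, _ =>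
    rw [List.prod_nil] at hl
    exact ⟨2, 0, Nat.prime_two, by rw [← hl, pow_zero]⟩
  | [a], hl, hg, _ =>
    rw [List.prod_singleton] at hl
    obtain ⟨q, k, hq, -, hk⟩ := (hg a (by simp)).1
    exact ⟨q, k, hq.nat_prime, by rw [← hl, ← hk]⟩
  | a :: b :: l, hl, _, hge =>
    exfalso
    rw [List.prod_cons, List.prod_cons] at hl
    have ha := hge a (by simp)
    have hb := hge b (by simp)
    have hlp : 0 < l.prod := by
      refine List.prod_pos ?_
      intro c hc
      have := hge c (by simp [hc])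
      omega
    have : p * p ≤ a * (b * l.prod) := by
      calc p * p ≤ a * b := Nat.mul_le_mul ha.le hb.le
        _ = a * (b * 1) := by ring
        _ ≤ a * (b * l.prod) := Nat.mul_le_mul_left _ (Nat.mul_le_mul_left _ hlp)
    rw [hl, ← pow_two] at this
    omega

theorem psolv_of_pp (p : ℕ) [hp : Fact p.Prime] (hmers : ¬ (3 < p ∧ ∃ k : ℕ, p + 1 = 2 ^ k)) (n : ℕ) :
    ∀ (G : Type u) [Group G] [Finite G], Nat.card G = n → Nat.card (Sylow p G) < p ^ 2 →
      (∃ q k : ℕ, q.Prime ∧ Nat.card (Sylow p G) = q ^ k) → Cfsg.IsPSolvable p G := by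
  induction n using Nat.strong_induction_on with
  | _ n ih =>
  intro G _ _ hn hlt2 hpp
  obtain ⟨q, k, hq, hk⟩ := hpp
  have hpos : 0 < Nat.card (Sylow p G) := Nat.card_pos
  by_cases ht : Nontrivial G
  swap
  · rw [not_nontrivial_iff_subsingleton] at ht
    refine Cfsg.Agent.Fus.PSol.isPSolvable_of_coprime ?_
    rw [Nat.card_unique]; exact Nat.coprime_one_left p
  by_cases hs : IsSimpleGroup G
  · by_cases hpG : p ∣ Nat.card G
    swap
    · exact Cfsg.Agent.Fus.PSol.isPSolvable_of_coprime ((Nat.Prime.coprime_iff_not_dvd hp.out).2 hpG).symm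
    by_cases hcomm : IsMulCommutative G
    · have P : Sylow p G := default
      have hPn : (P : Subgroup G).Normal := ⟨fun a ha g => by
        have : g * a * g⁻¹ = a := by rw [hcomm.is_comm.comm g a]; group
        rw [this]; exact ha⟩
      have h1 : (P : Subgroup G) = ⊤ :=
        (Subgroup.Normal.eq_bot_or_eq_top hPn).resolve_left (P.ne_bot_of_dvd_card hpG)
      obtain ⟨m, hm⟩ := IsPGroup.iff_card.1 P.2
      rw [h1, Subgroup.card_top] at hm
      exact Cfsg.Agent.Fus.PSol.isPSolvable_of_pgroup hm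
    · exact (simple_false hcomm hpG hmers hlt2 hq hk).elim
  obtain ⟨K, hKn, hK1, hK2⟩ : ∃ K : Subgroup G, K.Normal ∧ K ≠ ⊥ ∧ K ≠ ⊤ := by
    by_contra h
    push Not at h
    exact hs ⟨fun K hK => by
      by_cases h1 : K = ⊥
      · exact Or.inl h1
      · exact Or.inr (h K hK h1)⟩
  have hlt : Nat.card K < n := by
    rw [← hn]
    have := Cfsg.Agent.H65.card_lt_card_of_lt (lt_top_iff_ne_top.2 hK2)
    rwa [Subgroup.card_top] at this
  have hqlt : Nat.card (G ⧸ K) < n := by
    rw [← hn, Subgroup.card_eq_card_quotient_mul_card_subgroup K]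
    have h1 : 1 < Nat.card K := by
      rw [Subgroup.one_lt_card_iff_ne_bot]; exact hK1
    have h2 : 0 < Nat.card (G ⧸ K) := Nat.card_pos
    nlinarith
  have d1 := Cfsg.Agent.H1.card_sylow_dvd_of_normal p K
  have d2 := Cfsg.Agent.H1.card_sylow_quotient_dvd p K
  refine Cfsg.Agent.Fus.PSol.isPSolvable_ext _ K rfl ?_ ?_
  · refine ih _ hlt K rfl (lt_of_le_of_lt (Nat.le_of_dvd hpos d1) hlt2) ?_
    rw [hk] at d1
    obtain ⟨i, -, hi⟩ := (Nat.dvd_prime_pow hq).1 d1
    exact ⟨q, i, hq, hi⟩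
  · refine ih _ hqlt _ rfl (lt_of_le_of_lt (Nat.le_of_dvd hpos d2) hlt2) ?_
    rw [hk] at d2
    obtain ⟨i, -, hi⟩ := (Nat.dvd_prime_pow hq).1 d2
    exact ⟨q, i, hq, hi⟩

theorem main {G : Type u} [Group G] [Finite G] (p : ℕ) [Fact p.Prime]
    (hp : ¬ (3 < p ∧ ∃ k : ℕ, p + 1 = 2 ^ k)) (hn : Nat.card (Sylow p G) < p ^ 2) :
    Cfsg.IsPSolvable p G ↔ ∃ q k : ℕ, q.Prime ∧ Nat.card (Sylow p G) = q ^ k :=
  ⟨fun h => pp_of_list Fact.out (psolv_list p _ G rfl h) hn, fun h => psolv_of_pp p hp _ G rfl hn h⟩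

end Cfsg.Agent.H46SN
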